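/-
The linear permutations of the 85 points: a group isomorphic to a subgroup of `Sp₄(4)`.
-/
import Cfsg.Agent.Lib.Spor.Held.Sp.Data
import Cfsg.Agent.Lib.Spor.Fi22.U6.Field
import Mathlib.LinearAlgebra.SymplecticGroup

namespace CfsgLib.Spor.Held.Sp

open CfsgLib.Spor.TC Matrix CfsgLib.Spor.Fi22.U6

abbrev Vec : Type := Fin 2 ⊕ Fin 2 → Four

/-- A number as an element of the field. -/
def four : ℕ → Four
  | 0 => .o
  | 1 => .e
  | 2 => .w
  | _ => .u

/-- An element of the field as a number. -/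
def num4 : Four → ℕ
  | .o => 0
  | .e => 1
  | .w => 2
  | .u => 3

/-- The place of a coordinate. -/
def pos : Fin 2 ⊕ Fin 2 → ℕ
  | .inl i => i
  | .inr i => 2 + i

/-- The vector with given digits. -/
def ofCode (c : ℕ) : Vec := fun i => four (c / 4 ^ pos i % 4)

/-- The digits of a vector. -/
def code (v : Vec) : ℕ :=
  num4 (v (.inl 0)) + 4 * num4 (v (.inl 1)) + 16 * num4 (v (.inr 0)) + 64 * num4 (v (.inr 1))

theorem num4_lt (a : Four) : num4 a < 4 := by cases a <;> decide

theorem four_num4 (a : Four) : four (num4 a) = a := by cases a <;> rfl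

theorem ofCode_code (v : Vec) : ofCode (code v) = v := by
  funext i
  have h := fun j => num4_lt (v j)
  have h0 := h (.inl 0); have h1 := h (.inl 1); have h2 := h (.inr 0); have h3 := h (.inr 1)
  rcases i with i | i <;> fin_cases i <;> simp only [ofCode, pos, code] <;>
    refine Eq.trans ?_ (four_num4 _) <;> congr 1 <;> norm_num <;> omega

theorem code_injective : Function.Injective code := fun v w h => by
  rw [← ofCode_code v, h, ofCode_code]

/-- The vector of a point. -/
noncomputable def vec (p : ℕ) : Vec := ofCode (vecT.get 16 p)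

/-- The point of a vector. -/
noncomputable def idx (v : Vec) : ℕ := idxT.get 16 (code v)

/-- The matrix with given columns. -/
def matOf (c : ℕ) : Matrix (Fin 2 ⊕ Fin 2) (Fin 2 ⊕ Fin 2) Four :=
  Matrix.of fun i j => four (c / 4 ^ (4 * pos j + pos i) % 4)

theorem idx_smul : ∀ p : Fin 85, ∀ c : Four, c ≠ 0 → idx (c • vec p) = p := by decide +kernel

theorem vec_eq_smul {p q : Fin 85} {c : Four} (hc : c ≠ 0) (h : vec p = c • vec q) : p = q := by
  have h1 := idx_smul q c hc
  rw [← h, show vec p = (1 : Four) • vec p from (one_smul _ _).symm, idx_smul p 1 one_ne_zero] at h1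
  exact Fin.ext h1

/-- A permutation of the points comes from a matrix. -/
def Rel (g : Matrix (Fin 2 ⊕ Fin 2) (Fin 2 ⊕ Fin 2) Four) (π : Equiv.Perm (Fin 85)) : Prop :=
  ∀ p, ∃ c : Four, c ≠ 0 ∧ vec (π p) = c • (g *ᵥ vec p)

theorem Rel.mul {g g'} {π π' : Equiv.Perm (Fin 85)} (h : Rel g π) (h' : Rel g' π') : Rel (g * g') (π * π') := by
  intro p
  obtain ⟨c, hc, e⟩ := h' p
  obtain ⟨d, hd, e'⟩ := h (π' p)
  refine ⟨d * c, mul_ne_zero hd hc, ?_⟩
  rw [Equiv.Perm.mul_apply, e', e, Matrix.mulVec_smul, smul_smul, Matrix.mulVec_mulVec]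

theorem rel_one : Rel 1 1 := fun p => ⟨1, one_ne_zero, by simp⟩

theorem Rel.inv {g g'} {π : Equiv.Perm (Fin 85)} (h : Rel g π) (hg : g' * g = 1) : Rel g' π⁻¹ := by
  intro p
  obtain ⟨c, hc, e⟩ := h (π⁻¹ p)
  rw [show π (π⁻¹ p) = p from π.apply_symm_apply p] at e
  refine ⟨c⁻¹, inv_ne_zero hc, ?_⟩
  rw [e, Matrix.mulVec_smul, Matrix.mulVec_mulVec, hg, Matrix.one_mulVec, smul_smul, inv_mul_cancel₀ hc, one_smul]

/-- The linear permutations. -/
def linear : Subgroup (Equiv.Perm (Fin 85)) where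
  carrier := {π | ∃ g : Matrix.symplecticGroup (Fin 2) Four, Rel g.1 π}
  one_mem' := ⟨1, rel_one⟩
  mul_mem' := fun ⟨g, hg⟩ ⟨g', hg'⟩ => ⟨g * g', hg.mul hg'⟩
  inv_mem' := fun ⟨g, hg⟩ => ⟨g⁻¹, hg.inv (congrArg Subtype.val (inv_mul_cancel g))⟩

/-- The matrix of a linear permutation. -/
noncomputable def mat (π : linear) : Matrix.symplecticGroup (Fin 2) Four := π.2.choose

theorem rel_mat (π : linear) : Rel (mat π).1 π.1 := π.2.choose_spec

theorem frame_spec :
    vec (frame.getD 0 0) = Pi.single (Sum.inl 0) (1 : Four) ∧ vec (frame.getD 1 0) = Pi.single (Sum.inl 1) (1 : Four) ∧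
      vec (frame.getD 2 0) = Pi.single (Sum.inr 0) (1 : Four) ∧ vec (frame.getD 3 0) = Pi.single (Sum.inr 1) (1 : Four) ∧
      vec (frame.getD 4 0) = (fun _ => 1) ∧ ∀ i, i < 5 → frame.getD i 0 < 85 := by decide +kernel

theorem eq_one_of_rel_one (g : Matrix.symplecticGroup (Fin 2) Four) (h : Rel g.1 1) : g = 1 := by
  have key : ∀ i, i < 5 → ∃ c : Four, g.1 *ᵥ vec (frame.getD i 0) = c • vec (frame.getD i 0) := by
    intro i hi
    obtain ⟨c, hc, e⟩ := h ⟨_, frame_spec.2.2.2.2.2 i hi⟩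
    rw [Equiv.Perm.one_apply] at e
    refine ⟨c⁻¹, ?_⟩
    conv_rhs => rw [e, smul_smul, inv_mul_cancel₀ hc, one_smul]
  obtain ⟨f0, f1, f2, f3, f4, -⟩ := frame_spec
  have hdiag : ∀ j, ∃ l : Four, ∀ i, g.1 i j = if i = j then l else 0 := by
    intro j
    have hk : ∃ k, k < 5 ∧ vec (frame.getD k 0) = Pi.single j 1 := by
      rcases j with j | j <;> fin_cases j
      exacts [⟨0, by omega, f0⟩, ⟨1, by omega, f1⟩, ⟨2, by omega, f2⟩, ⟨3, by omega, f3⟩]
    obtain ⟨k, hk, e⟩ := hk
    obtain ⟨c, hc⟩ := key k hk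
    rw [e, Matrix.mulVec_single_one] at hc
    refine ⟨c, fun i => (congrFun hc i).trans ?_⟩
    by_cases hij : i = j
    · subst hij; simp
    · simp [hij]
  choose l hl using hdiag
  have hg : g.1 = Matrix.diagonal l := by
    ext i j
    rw [hl j i, Matrix.diagonal_apply]
    split_ifs with e
    · rw [e]
    · rfl
  obtain ⟨μ, hμ⟩ := key 4 (by omega)
  rw [f4, hg] at hμ
  have hlμ : ∀ i, l i = μ := fun i => by
    have := congrFun hμ i
    simpa [Matrix.mulVec_diagonal] using this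
  have h1 : μ * μ = 1 := by
    have h2 := congrFun (congrFun (SymplecticGroup.mem_iff.1 g.2 : _ = _) (Sum.inr 0)) (Sum.inl 0)
    rw [hg, Matrix.diagonal_transpose, Matrix.mul_diagonal, Matrix.diagonal_mul, hlμ, hlμ] at h2
    simpa [Matrix.J] using h2
  have h3 : μ = 1 := (by decide : ∀ a : Four, a * a = 1 → a = 1) μ h1
  refine Subtype.ext ?_
  rw [hg, show l = fun _ => 1 from funext fun i => (hlμ i).trans h3, Matrix.diagonal_one]
  rfl

theorem mat_unique (π : linear) (g : Matrix.symplecticGroup (Fin 2) Four) (h : Rel g.1 π.1) : mat π = g := by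
  have h1 := ((rel_mat π).inv (g' := ((mat π)⁻¹ : Matrix.symplecticGroup (Fin 2) Four).1)
    (congrArg Subtype.val (inv_mul_cancel (mat π)))).mul h
  rw [inv_mul_cancel] at h1
  exact inv_mul_eq_one.1 (eq_one_of_rel_one ((mat π)⁻¹ * g) h1)

/-- The matrices of the linear permutations. -/
noncomputable def matHom : linear →* Matrix.symplecticGroup (Fin 2) Four where
  toFun := mat
  map_one' := mat_unique 1 1 rel_one
  map_mul' := fun π π' => mat_unique _ _ ((rel_mat π).mul (rel_mat π'))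

theorem matHom_injective : Function.Injective matHom := by
  intro π π' h
  refine Subtype.ext (Equiv.ext fun p => ?_)
  obtain ⟨c, hc, e⟩ := rel_mat π p
  obtain ⟨d, hd, e'⟩ := rel_mat π' p
  rw [show mat π = mat π' from h] at e
  refine vec_eq_smul (mul_ne_zero hc (inv_ne_zero hd)) ?_
  rw [e, e', smul_smul, mul_assoc, inv_mul_cancel₀ hd, mul_one]

end CfsgLib.Spor.Held.Sp
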