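/-
Checks of the tables: the action on the blocks, its order, and matrices for its generators.
-/
import Cfsg.Agent.Lib.Spor.Held.Sp.Geometry
import Cfsg.Agent.Lib.Spor.Held.ActH.Data

namespace CfsgLib.Spor.Held.Sp

open CfsgLib.Spor.TC Matrix CfsgLib.Spor.Fi22.U6

theorem range0 : act.RangeOK [] 0 85 := Act.RangeOK.of_check _ (by decide +kernel)

theorem valid : act.Valid [] := ⟨range0, by decide +kernel, by simp⟩

theorem bases_ok : act.levelsOK bases [] = true := by decide +kernel

/-- The permutation of a generator. -/
noncomputable def gen (x : ℕ) : Equiv.Perm (Fin 85) := valid.invPerm x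

theorem gen_apply {x : ℕ} (hx : x < 7) (p : Fin 85) : (gen x p : ℕ) = act.T x p :=
  valid.invPerm_apply (A := act) hx p

/-- The block of a point. -/
noncomputable def blk (c : ℕ) : ℕ := blkT.get 16 c

/-- A generator moves the blocks as its word in the letters does. -/
noncomputable def compatB (x : ℕ) : Bool :=
  allFrom (fun c => Nat.ble 85 (blk c) ||
    Nat.beq (blk (ActH.act.wact (words.getD x []) c)) (act.T x (blk c))) 0 2058

theorem compat_ok : ∀ x : Fin 7, compatB x = true := by decide +kernel

theorem rep_ok : ∀ p : Fin 85, repT.get 16 p < 2058 ∧ blk (repT.get 16 p) = p := by decide +kernel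

theorem words_ok : ∀ x : Fin 7, ∀ y ∈ words.getD x [], y ∈ [0, 2, 3, 4, 5, 7, 8] := by decide +kernel

/-- The linear generators. -/
def linGens : List ℕ := [0, 1, 2, 3, 4, 6]

/-- A word of generators moves the points as a matrix does. -/
noncomputable def matB (w : List ℕ) (m : ℕ) : Bool :=
  allFrom (fun p => Nat.beq (idx (matOf m *ᵥ vec p)) (act.wact w p)) 0 85

/-- The words certified by the matrices. -/
def linWords : List (List ℕ) := (linGens.map fun x => [x]) ++ linGens.map fun x => [5, x, 5]

theorem mats_ok : ∀ i : Fin 12, matB (linWords.getD i []) (mats.getD i 0) = true := by decide +kernel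

theorem mats_symplectic : ∀ i : Fin 12, matOf (mats.getD i 0) * Matrix.J (Fin 2) Four *
    (matOf (mats.getD i 0))ᵀ = Matrix.J (Fin 2) Four := by decide +kernel

/-- The point of a vector has that vector, up to a scalar. -/
theorem idx_spec : ∀ n : Fin 256, idx (ofCode n) < 85 →
    ∃ c : Four, c ≠ 0 ∧ vec (idx (ofCode n)) = c • ofCode n := by decide +kernel

theorem code_lt (v : Vec) : code v < 256 := by
  have h := fun j => num4_lt (v j)
  have h0 := h (.inl 0); have h1 := h (.inl 1); have h2 := h (.inr 0); have h3 := h (.inr 1)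
  unfold code
  omega

/-- A checked matrix gives a linear permutation. -/
theorem mem_linear (i : Fin 12) : ev gen (linWords.getD i []) ∈ linear := by
  refine ⟨⟨matOf (mats.getD i 0), SymplecticGroup.mem_iff.2 (mats_symplectic i)⟩, fun p => ?_⟩
  have h := Nat.eq_of_beq_eq_true (allFrom_spec (mats_ok i) p (Nat.zero_le _) (by have := p.2; omega))
  have hw : ∀ y ∈ linWords.getD i [], y < 7 :=
    (by decide +kernel : ∀ i : Fin 12, ∀ y ∈ linWords.getD i [], y < 7) i
  have e : (ev gen (linWords.getD i []) p : ℕ) = act.wact (linWords.getD i []) p := by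
    have h2 := valid.wact_eq (w := linWords.getD i []) (fun y hy => lt_of_lt_of_le (hw y hy) (Nat.le_add_right _ _)) p
    have h3 : ev gen (linWords.getD i []) = ev valid.perm (linWords.getD i []) :=
      ev_congr fun y hy => (valid.perm_of_lt (hw y hy)).symm
    exact (congrArg (fun (σ : Equiv.Perm (Fin 85)) => ((σ p : Fin 85) : ℕ)) h3).trans h2
  rw [e, ← h]
  have hlt : idx (matOf (mats.getD i 0) *ᵥ vec p) < 85 := h ▸ e ▸ (ev gen (linWords.getD i []) p).2
  have h3 := idx_spec ⟨code (matOf (mats.getD i 0) *ᵥ vec p), code_lt _⟩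
  simp only [ofCode_code] at h3
  exact h3 hlt

end CfsgLib.Spor.Held.Sp
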