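/-
`S₄(4):2`: the subgroup of index 2058 acts faithfully on 85 blocks, and the linear part is `Sp₄(4)`.
-/
import Cfsg.Agent.Lib.Spor.Held.Order
import Cfsg.Agent.Lib.Spor.Held.Sp.Checks
import Cfsg.Agent.Lib.Classical.SpOrder

namespace CfsgLib.Spor.Held.Sp

open CfsgLib.Spor.TC Matrix CfsgLib.Spor.Fi22.U6

attribute [local instance] actionH

local notation "G₀" => Pres ActH.act.k relsG

/-- A generator in the presented group. -/
noncomputable def lift (x : ℕ) : G₀ := ev (ActH.act.letters relsG) (words.getD x [])

/-- An element and a permutation of blocks move the blocks alike. -/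
def Compat (z : G₀ × Equiv.Perm (Fin 85)) : Prop :=
  ∀ (c : Fin ActH.act.n) (hc : blk c < 85), blk (z.1 • c : Fin ActH.act.n) = (z.2 ⟨blk c, hc⟩ : ℕ)

/-- The pairs. -/
noncomputable def pairs : Subgroup (G₀ × Equiv.Perm (Fin 85)) :=
  Subgroup.closure ((fun x => (lift x, gen x)) '' Set.Iio 7)

theorem K_eq : ActH.act.K = 7 + ActH.act.defs.length := rfl

theorem words_lt {x : ℕ} (hx : x < 7) : ∀ y ∈ words.getD x [], y < ActH.act.K := by
  intro y hy
  have h1 : y ∈ [0, 2, 3, 4, 5, 7, 8] := words_ok ⟨x, hx⟩ y hy
  have h2 : 2 ≤ ActH.act.defs.length := by decide +kernel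
  have := K_eq
  simp only [List.mem_cons, List.not_mem_nil, or_false] at h1
  omega

theorem compat_gen {x : ℕ} (hx : x < 7) : Compat (lift x, gen x) := by
  intro c hc
  have h1 := allFrom_spec (compat_ok ⟨x, hx⟩) c (Nat.zero_le _) (by
    have : (c : ℕ) < 2058 := c.2
    omega)
  simp only [Bool.or_eq_true] at h1
  rcases h1 with h1 | h1
  · exact absurd (Nat.le_of_ble_eq_true h1) (not_le.2 hc)
  rw [gen_apply hx]
  refine Eq.trans ?_ (Nat.eq_of_beq_eq_true h1)
  congr 1
  show ((ActH.valid.rho (lift x) c : Fin ActH.act.n) : ℕ) = _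
  rw [lift, map_ev, ev_congr (g' := ActH.valid.perm) fun y _ => ActH.valid.rho_letters y]
  exact ActH.valid.wact_eq (words_lt hx) c

theorem compat_pairs {z : G₀ × Equiv.Perm (Fin 85)} (hz : z ∈ pairs) : Compat z := by
  induction hz using Subgroup.closure_induction with
  | mem z h => obtain ⟨x, hx, rfl⟩ := h; exact compat_gen hx
  | one => intro c hc; simp
  | mul z z' _ _ h h' =>
    intro c hc
    have e := h' c hc
    have hlt : blk (z'.1 • c : Fin ActH.act.n) < 85 := e ▸ (z'.2 _).2
    have e' := h _ hlt
    simp only [Prod.fst_mul, Prod.snd_mul, mul_smul, Equiv.Perm.mul_apply]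
    rw [e']
    congr 2
    exact Fin.ext e
  | inv z _ h =>
    intro c hc
    let f : {d : Fin ActH.act.n // blk d < 85} → {d : Fin ActH.act.n // blk d < 85} := fun d =>
      ⟨z.1 • d.1, (h d.1 d.2) ▸ (z.2 _).2⟩
    have hf : Function.Injective f := fun d d' e =>
      Subtype.ext (MulAction.injective z.1 (congrArg Subtype.val e))
    obtain ⟨d, hd⟩ := Finite.injective_iff_surjective.1 hf ⟨c, hc⟩
    have e : z.1 • d.1 = c := congrArg Subtype.val hd
    have e2 : z.2 ⟨blk d.1, d.2⟩ = ⟨blk c, hc⟩ := by
      refine Fin.ext ((h d.1 d.2).symm.trans ?_)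
      rw [e]
    simp only [Prod.fst_inv, Prod.snd_inv]
    rw [show z.1⁻¹ • c = d.1 by rw [← e, inv_smul_smul], show z.2⁻¹ ⟨blk c, hc⟩ = ⟨blk d.1, d.2⟩ by
      rw [← e2]; exact z.2.symm_apply_apply _]

theorem eq_one_of_fst {z : G₀ × Equiv.Perm (Fin 85)} (hz : z ∈ pairs) (h : z.1 = 1) : z = 1 := by
  refine Prod.ext h (Equiv.ext fun p => ?_)
  obtain ⟨hr, hp⟩ := rep_ok p
  have e := compat_pairs hz ⟨repT.get 16 p, hr⟩ (lt_of_eq_of_lt hp p.2)
  rw [h, one_smul] at e
  refine Fin.ext (Eq.trans ?_ (e.symm.trans hp))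
  congr 2
  exact Fin.ext hp.symm

/-- The subgroup as pairs. -/
noncomputable def toSub : pairs →* G₀ := (MonoidHom.fst G₀ (Equiv.Perm (Fin 85))).comp pairs.subtype

/-- The blocks permuted. -/
noncomputable def toPerm : pairs →* Equiv.Perm (Fin 85) := (MonoidHom.snd G₀ (Equiv.Perm (Fin 85))).comp pairs.subtype

theorem toSub_injective : Function.Injective toSub := by
  rw [injective_iff_map_eq_one]
  exact fun z h => Subtype.ext (eq_one_of_fst z.2 h)

theorem range_toSub_le : toSub.range ≤ subH := by
  rintro _ ⟨⟨z, hz⟩, rfl⟩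
  show z.1 ∈ subH
  induction hz using Subgroup.closure_induction with
  | mem z h =>
    obtain ⟨x, hx, rfl⟩ := h
    refine Subgroup.list_prod_mem _ fun u hu => ?_
    obtain ⟨y, hy, rfl⟩ := List.mem_map.1 hu
    exact Subgroup.subset_closure ⟨y, words_ok ⟨x, hx⟩ y hy, rfl⟩
  | one => exact one_mem _
  | mul z z' _ _ h h' => exact mul_mem h h'
  | inv z _ h => exact inv_mem h

theorem range_toPerm : toPerm.range = Subgroup.closure (gen '' Set.Iio 7) := by
  rw [toPerm, MonoidHom.range_comp, Subgroup.range_subtype, pairs, MonoidHom.map_closure, Set.image_image]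
  rfl

theorem card_range_ge : 1958400 ≤ Nat.card toPerm.range := by
  rw [range_toPerm]
  refine le_trans (le_of_eq (by decide +kernel : (1958400 : ℕ) = levelsProd bases))
    (card_ge_of_levels act valid bases [] _ bases_ok fun L hL x hx _ => ?_)
  have key : ∀ y, valid.perm y ∈ Subgroup.closure (gen '' Set.Iio 7) := by
    intro y
    have h1 : valid.perm y = valid.rho (act.letters [] y) := (valid.rho_letters y).symm
    have h2 : act.letters [] y ∈ Subgroup.closure (presGen act.k ([] : List PowRel) '' Set.Iio act.k) := by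
      rw [closure_presGen]; trivial
    have h3 := Subgroup.mem_map_of_mem valid.rho h2
    rw [MonoidHom.map_closure, Set.image_image, ← h1] at h3
    refine (Subgroup.closure_le _).2 ?_ h3
    rintro _ ⟨i, hi, rfl⟩
    exact Subgroup.subset_closure ⟨i, hi, (presHom_gen valid.sat i).symm⟩
  exact key x

theorem card_subH : Nat.card subH = 1958400 := by
  obtain ⟨S, -, -, -⟩ := exists_suborbitsH
  have h := subH.index_mul_card
  rw [S.index_eq, card_held, Nat.card_fin] at h
  have : ActH.act.n = 2058 := rfl
  rw [this] at h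
  omega

theorem bijective :
    Function.Injective toPerm ∧ toSub.range = subH ∧ Nat.card toPerm.range = 1958400 := by
  haveI : Finite subH := Nat.finite_of_card_ne_zero (ne_of_eq_of_ne card_subH (by decide))
  have h1 : Nat.card pairs = Nat.card toSub.range := Nat.card_congr (MonoidHom.ofInjective toSub_injective).toEquiv
  haveI : Finite toSub.range := Finite.of_injective _ (Subgroup.inclusion_injective range_toSub_le)
  have h2 : Nat.card toSub.range ≤ 1958400 := card_subH ▸ Nat.card_le_card_of_injective _
    (Subgroup.inclusion_injective range_toSub_le)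
  haveI : Finite pairs := Finite.of_injective _ (MonoidHom.ofInjective toSub_injective).injective
  have h3 := Nat.card_le_card_of_surjective _ toPerm.rangeRestrict_surjective
  have h4 := card_range_ge
  refine ⟨?_, ?_, by omega⟩
  · have h5 := toPerm.rangeRestrict_surjective.bijective_of_nat_card_le (by omega)
    exact fun u v e => h5.1 (Subtype.ext e)
  · refine le_antisymm range_toSub_le fun u hu => ?_
    have h6 := (Subgroup.inclusion_injective range_toSub_le).bijective_of_nat_card_le
      (le_of_eq (card_subH.trans (by omega)))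
    obtain ⟨v, hv⟩ := h6.2 ⟨u, hu⟩
    have h7 : (v : G₀) = u := congrArg Subtype.val hv
    exact h7 ▸ v.2

/-- A semilinear generator. -/
noncomputable def semi : Equiv.Perm (Fin 85) := gen 5

theorem gen_sq (x : ℕ) : gen x * gen x = 1 := valid.sat.sq x

theorem mem_linear_gen {x : ℕ} (hx : x ∈ linGens) : gen x ∈ linear ∧ semi * gen x * semi ∈ linear := by
  obtain ⟨i, hi, h1, h2⟩ : ∃ i, i < 6 ∧ linWords.getD i [] = [x] ∧ linWords.getD (6 + i) [] = [5, x, 5] := by
    revert x; decide +kernel
  have a := mem_linear ⟨i, by omega⟩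
  have b := mem_linear ⟨6 + i, by omega⟩
  rw [h1] at a
  rw [h2] at b
  simp only [ev, List.map_cons, List.map_nil, List.prod_cons, List.prod_nil, mul_one] at a b
  exact ⟨a, by rw [semi, mul_assoc]; exact b⟩

theorem mem_or {u : Equiv.Perm (Fin 85)} (hu : u ∈ toPerm.range) :
    u ∈ linear ⊓ toPerm.range ∨ semi * u ∈ linear ⊓ toPerm.range := by
  rw [range_toPerm] at hu ⊢
  have hs : semi ∈ Subgroup.closure (gen '' Set.Iio 7) := Subgroup.subset_closure ⟨5, by simp, rfl⟩
  suffices h : u ∈ linear ∨ semi * u ∈ linear by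
    exact h.imp (fun h => ⟨h, hu⟩) (fun h => ⟨h, mul_mem hs hu⟩)
  clear hs
  have step : ∀ x ∈ Set.Iio 7, ∀ u, (u ∈ linear ∨ semi * u ∈ linear) →
      (gen x * u ∈ linear ∨ semi * (gen x * u) ∈ linear) := by
    intro x hx u hu
    by_cases h5 : x = 5
    · subst h5
      rw [← mul_assoc semi (gen 5) u, show semi * gen 5 = 1 from gen_sq 5, one_mul]
      exact hu.symm
    · obtain ⟨a, b⟩ := mem_linear_gen (x := x) (by
        simp only [linGens, List.mem_cons, List.not_mem_nil, or_false]
        rw [Set.mem_Iio] at hx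
        omega)
      rcases hu with hu | hu
      · exact Or.inl (mul_mem a hu)
      · refine Or.inr ?_
        have : semi * (gen x * u) = semi * gen x * semi * (semi * u) := by
          rw [mul_assoc (semi * gen x) semi (semi * u), ← mul_assoc semi semi u,
            show semi * semi = 1 from gen_sq 5, one_mul, mul_assoc]
        rw [this]
        exact mul_mem b hu
  induction hu using Subgroup.closure_induction_left with
  | one => exact Or.inl (one_mem _)
  | mul_left v hv w _ ih =>
    obtain ⟨x, hx, rfl⟩ := hv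
    exact step x hx w ih
  | inv_mul_cancel v hv w _ ih =>
    obtain ⟨x, hx, rfl⟩ := hv
    rw [inv_eq_of_mul_eq_one_right (gen_sq x)]
    exact step x hx w ih

/-- The stabilizer of index two. -/
noncomputable def linPart : Subgroup toPerm.range := linear.subgroupOf toPerm.range

theorem card_symplectic_four : Nat.card (Matrix.symplecticGroup (Fin 2) Four) = 979200 := by
  rw [CfsgLib.Classical.card_symplectic, Four.card_four]
  decide

theorem linPart_spec : linPart.index = 2 ∧ Nonempty (linPart ≃* Matrix.symplecticGroup (Fin 2) Four) := by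
  let f : linPart →* Matrix.symplecticGroup (Fin 2) Four :=
    matHom.comp (((toPerm.range.subtype.comp linPart.subtype)).codRestrict linear fun u => u.2)
  have hf : Function.Injective f := matHom_injective.comp fun u v e => by
    have h : ((u.1 : toPerm.range) : Equiv.Perm (Fin 85)) = v.1 := congrArg (fun w : linear => w.1) e
    exact Subtype.ext (Subtype.ext h)
  have h1 : Nat.card linPart ≤ 979200 := card_symplectic_four ▸ Nat.card_le_card_of_injective _ hf
  have h2 : Nat.card toPerm.range ≤ 2 * Nat.card linPart := by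
    have hs : semi ∈ toPerm.range := by rw [range_toPerm]; exact Subgroup.subset_closure ⟨5, by simp, rfl⟩
    let φ : Bool × linPart → toPerm.range := fun z =>
      bif z.1 then (⟨semi, hs⟩ : toPerm.range) * z.2.1 else z.2.1
    have hφ : Function.Surjective φ := by
      rintro ⟨u, hu⟩
      rcases mem_or hu with h | h
      · exact ⟨(false, ⟨⟨u, hu⟩, h.1⟩), rfl⟩
      · refine ⟨(true, ⟨⟨semi * u, h.2⟩, h.1⟩), Subtype.ext ?_⟩
        show semi * (semi * u) = u
        rw [← mul_assoc, show semi * semi = 1 from gen_sq 5, one_mul]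
    refine (Nat.card_le_card_of_surjective φ hφ).trans ?_
    rw [Nat.card_prod, Nat.card_eq_fintype_card, Fintype.card_bool]
  have h3 := linPart.card_mul_index
  rw [bijective.2.2] at h2 h3
  have h4 : Nat.card linPart = 979200 := by omega
  refine ⟨?_, ⟨MulEquiv.ofBijective f (hf.bijective_of_nat_card_le (le_of_eq (card_symplectic_four.trans h4.symm)))⟩⟩
  rw [h4] at h3
  omega

end CfsgLib.Spor.Held.Sp
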