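/-
`S₄(4):2` inside the presented Held group.
-/
import Cfsg.Agent.Lib.Spor.Held.Sp.Group
import Cfsg.Agent.Lib.Spor.Held.Final

namespace CfsgLib.Spor.Held.Sp

open CfsgLib.Spor.TC CfsgLib.Spor.Fi22.U6

theorem presented :
    ∃ (N : Subgroup (((Subgroup.closure ({Cfsg.Spor.He.a, Cfsg.Spor.He.c, Cfsg.Spor.He.d, Cfsg.Spor.He.e,
      Cfsg.Spor.He.f, (Cfsg.Spor.He.a * Cfsg.Spor.He.b) ^ 2,
      (Cfsg.Spor.He.b * Cfsg.Spor.He.c * Cfsg.Spor.He.d * Cfsg.Spor.He.e) ^ 7} :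
        Set (FreeGroup Cfsg.Spor.He.Gen))).map
      (PresentedGroup.mk (Cfsg.Spor.coxRelators Cfsg.Spor.He.edges ∪ {r | r ∈ Cfsg.Spor.He.extra})))))
      (K : Type) (_ : Field K) (_ : Fintype K),
      N.Normal ∧ N.index = 2 ∧ Fintype.card K = 4 ∧ Nonempty (N ≃* Matrix.symplecticGroup (Fin 2) K) := by
  obtain ⟨e, he⟩ := exists_equiv_gen
  obtain ⟨hinj, hran, -⟩ := bijective
  obtain ⟨hidx, ⟨f⟩⟩ := linPart_spec
  have hmap := map_subH e he
  revert hmap
  generalize (Subgroup.closure ({Cfsg.Spor.He.a, Cfsg.Spor.He.c, Cfsg.Spor.He.d, Cfsg.Spor.He.e,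
      Cfsg.Spor.He.f, (Cfsg.Spor.He.a * Cfsg.Spor.He.b) ^ 2,
      (Cfsg.Spor.He.b * Cfsg.Spor.He.c * Cfsg.Spor.He.d * Cfsg.Spor.He.e) ^ 7} :
        Set (FreeGroup Cfsg.Spor.He.Gen))).map
      (PresentedGroup.mk (Cfsg.Spor.coxRelators Cfsg.Spor.He.edges ∪ {r | r ∈ Cfsg.Spor.He.extra})) = H
  intro hmap
  let e2 : H ≃* toPerm.range :=
    ((MulEquiv.subgroupCongr hmap.symm).trans (subH.equivMapOfInjective e.toMonoidHom e.injective).symm).trans
      ((MulEquiv.subgroupCongr hran.symm).trans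
        ((MonoidHom.ofInjective toSub_injective).symm.trans (MonoidHom.ofInjective hinj)))
  have h2 : (linPart.comap e2.toMonoidHom).index = 2 := by
    rw [Subgroup.index_comap_of_surjective _ e2.surjective, hidx]
  exact ⟨linPart.comap e2.toMonoidHom, Four, inferInstance, inferInstance,
    Subgroup.normal_of_index_eq_two h2, h2, Four.card_four,
    ⟨((linPart.comap e2.toMonoidHom).equivMapOfInjective e2.toMonoidHom e2.injective).trans
      ((MulEquiv.subgroupCongr (Subgroup.map_comap_eq_self_of_surjective e2.surjective _)).trans f)⟩⟩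

end CfsgLib.Spor.Held.Sp
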