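/-
The Held group on 2058 points, with point stabilizer `Sp₄(4):2`.
-/
import Cfsg.Agent.Lib.Spor.Held.Sp.Group
import Cfsg.Prelude.Def_Sporadic

namespace CfsgLib.Spor.Held.Sp

open CfsgLib.Spor.TC MulAction CfsgLib.Spor.Fi22.U6

attribute [local instance] actionH

/-- The point stabilizer in the image. -/
theorem exists_stabilizer_equiv (b : Fin ActH.act.n) (hb : (b : ℕ) = 0) :
    Nonempty (stabilizer ActH.valid.rho.range b ≃* subH) := by
  obtain ⟨S, h0, -, -⟩ := exists_suborbitsH
  obtain rfl : S.a = b := Fin.ext (h0.trans hb.symm)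
  let e := MonoidHom.ofInjective rho_injective_held
  have h : subH.map e.toMonoidHom = stabilizer ActH.valid.rho.range S.a := by
    ext y
    rw [Subgroup.mem_map_equiv, ← S.mem_iff, mem_stabilizer_iff]
    have : (y : Equiv.Perm (Fin ActH.act.n)) = ActH.valid.rho (e.symm y) :=
      (MonoidHom.apply_ofInjective_symm rho_injective_held y).symm
    show _ ↔ (y : Equiv.Perm (Fin ActH.act.n)) S.a = S.a
    rw [this]
    rfl
  exact ⟨(MulEquiv.subgroupCongr h.symm).trans (subH.equivMapOfInjective e.toMonoidHom e.injective).symm⟩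

theorem exists_moving (x y : Fin ActH.act.n) : ∃ u ∈ ActH.valid.rho.range, u x = y := by
  obtain ⟨S, -, -, -⟩ := exists_suborbitsH
  obtain ⟨g, hg⟩ := S.trans x
  obtain ⟨g', hg'⟩ := S.trans y
  refine ⟨ActH.valid.rho (g' * g⁻¹), ⟨_, rfl⟩, ?_⟩
  show (g' * g⁻¹) • x = y
  rw [mul_smul, ← hg, inv_smul_smul, hg']

/-- The image on 2058 points. -/
noncomputable def permGroup : Subgroup (Equiv.Perm (Fin 2058)) := ActH.valid.rho.range

theorem realization :
    ∃ H : Subgroup (Equiv.Perm (Fin 2058)), Cfsg.IsHe H ∧ MulAction.IsPretransitive H (Fin 2058) ∧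
      ∃ (F : Type) (_ : Field F) (_ : Fintype F), Fintype.card F = 4 ∧
        ∃ N : Subgroup (MulAction.stabilizer H (0 : Fin 2058)),
          N.index = 2 ∧ Nonempty (N ≃* Matrix.symplecticGroup (Fin 2) F) := by
  refine ⟨permGroup, ?_, ?_, Four, inferInstance, inferInstance, Four.card_four, ?_⟩
  · haveI := simple_held
    have e := MonoidHom.ofInjective rho_injective_held
    exact ⟨e.symm.isSimpleGroup, (Nat.card_congr e.toEquiv).symm.trans card_held⟩
  · refine ⟨fun x y => ?_⟩
    obtain ⟨u, hu, h⟩ := exists_moving x y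
    exact ⟨⟨u, hu⟩, h⟩
  · obtain ⟨e1⟩ := exists_stabilizer_equiv (0 : Fin 2058) rfl
    obtain ⟨hinj, hran, -⟩ := bijective
    let e : MulAction.stabilizer permGroup (0 : Fin 2058) ≃* toPerm.range :=
      e1.trans ((MulEquiv.subgroupCongr hran.symm).trans
        ((MonoidHom.ofInjective toSub_injective).symm.trans (MonoidHom.ofInjective hinj)))
    obtain ⟨hidx, ⟨f⟩⟩ := linPart_spec
    refine ⟨linPart.comap e.toMonoidHom, ?_, ⟨?_⟩⟩
    · rw [Subgroup.index_comap_of_surjective _ e.surjective, hidx]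
    · exact ((linPart.comap e.toMonoidHom).equivMapOfInjective e.toMonoidHom e.injective).trans
        ((MulEquiv.subgroupCongr (Subgroup.map_comap_eq_self_of_surjective e.surjective _)).trans f)

end CfsgLib.Spor.Held.Sp
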